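import Cfsg.Agent.Helper17.WE7TC.FinLast
import Cfsg.Agent.Helper17.TCGeneric
import Cfsg.Agent.Helper17.TCGeneric2

set_option autoImplicit false
set_option linter.all false
set_option maxRecDepth 100000
set_option maxHeartbeats 0
set_option Elab.async false

noncomputable section

namespace Cfsg.Agent.Helper17.WE7TC

open Cfsg.Spor Cfsg.Agent.Helper17.TCG Cfsg.Agent.Helper17.Fi24Sp

def c0 : ℕ := 0xdb7d74cf2c70beeb6cae7a68aa49668628de7e06da75c5d865455640f45348e34c2ca2481c61440c2001

def c1 : ℕ := 0xdf5db4cf2c70beeb6aaec9a89e98e496086271e75f61a65b5565d14d250d30e40f2ca2481c61440c1080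

def c2 : ℕ := 0xdf6d35cf2c70becb6ea6aae59e6a248e285d7db8197977186965544d23903d12ca34c2481c6144083040

def c3 : ℕ := 0xdf6d73d32c70bafaecb6aa689e68a48257a37e175c6da5985194574d25503ce34c2482ca1c6143102040

def c4 : ℕ := 0xdf6d74cb3bf0c6eb6ca2a96b9e3a619a29207de75c6da6585d35505923543cb44c38a2461c81050c2040

def c5 : ℕ := 0xdf6d74cf0c72b6bbe9ba6b2892a9678e28607de75c6da6585d655449344f40e30d28b2091461c40c2040

def c6 : ℕ := 0xdf6d74c6fcedcaec2caeaa689e69648df85c89a6605de7556d66144d24503ce34c2ca1c52442060c2040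

def colOf : ℕ → ℕ
  | 0 => c0
  | 1 => c1
  | 2 => c2
  | 3 => c3
  | 4 => c4
  | 5 => c5
  | 6 => c6
  | _ => 0

def subW : ℕ → List ℕ
  | 0 => [1]
  | 1 => [2]
  | 2 => [3]
  | 3 => [4]
  | 4 => [5]
  | 5 => [6]
  | _ => []

def nsub : ℕ := 6

def idx : Gn → ℕ
  | .a => 0
  | .b => 1
  | .c => 2
  | .d => 3
  | .e => 4
  | .f => 5
  | .h => 6

def subS : Set (FreeGroup Gn) := {WE7.b, WE7.c, WE7.d, WE7.e, WE7.f, WE7.h}

def lkc (c i : ℕ) : ℕ := Nat.land (Nat.shiftRight c (Nat.mul 6 i)) 63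

def lk2 (l i : ℕ) : ℕ := lkc (colOf l) i

def tb (i l : ℕ) : ℕ := lk2 l i

theorem tb_eq (i l : ℕ) : tb i l = lk2 l i := rfl

def evalC (w : List ℕ) (i : ℕ) : ℕ :=
  List.rec (motive := fun _ => ℕ → ℕ) (fun i => i) (fun l _ ih i => ih (lk2 l i)) w i

theorem evalC_cons (l : ℕ) (w : List ℕ) (i : ℕ) : evalC (l :: w) i = evalC w (lk2 l i) := rfl

/-- kernel-fast evaluation on a list of column literals -/
def evalK (cw : List ℕ) (i : ℕ) : ℕ :=
  List.rec (motive := fun _ => ℕ → ℕ) (fun i => i) (fun c _ ih i => ih (lkc c i)) cw i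

theorem evalK_cons (c : ℕ) (w : List ℕ) (i : ℕ) : evalK (c :: w) i = evalK w (lkc c i) := rfl

theorem evalC_eq_evalK (w : List ℕ) (i : ℕ) : evalC w i = evalK (w.map colOf) i := by
  induction w generalizing i with
  | nil => rfl
  | cons l w ih => rw [evalC_cons, List.map_cons, evalK_cons, ih]; rfl

def pK (cw : List ℕ) (i : ℕ) : Bool := Nat.beq (evalK cw i) i

def ltAll (w : List ℕ) : Bool := w.all fun l => Nat.blt l nl

theorem ltAll_spec {w : List ℕ} (h : ltAll w = true) : ∀ l ∈ w, l < nl := by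
  intro l hl
  simp only [ltAll, List.all_eq_true] at h
  have := h l hl
  rwa [Nat.blt_eq] at this

def pInvK (c i : ℕ) : Bool := Nat.ble (Nat.succ (lkc c i)) N && Nat.beq (lkc c (lkc c i)) i

def pInv (l i : ℕ) : Bool := pInvK (colOf l) i

theorem INV0_0 : allR 0 56 (pInvK c0) = true := by decide +kernel

theorem INV0_all : ∀ i, i < N → (pInvK c0) i = true := by
  intro i hi
  have hN : N = 56 := rfl
  exact (allR_iff _ _ _).mp INV0_0 i (by omega) (by omega)

theorem INV1_0 : allR 0 56 (pInvK c1) = true := by decide +kernel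

theorem INV1_all : ∀ i, i < N → (pInvK c1) i = true := by
  intro i hi
  have hN : N = 56 := rfl
  exact (allR_iff _ _ _).mp INV1_0 i (by omega) (by omega)

theorem INV2_0 : allR 0 56 (pInvK c2) = true := by decide +kernel

theorem INV2_all : ∀ i, i < N → (pInvK c2) i = true := by
  intro i hi
  have hN : N = 56 := rfl
  exact (allR_iff _ _ _).mp INV2_0 i (by omega) (by omega)

theorem INV3_0 : allR 0 56 (pInvK c3) = true := by decide +kernel

theorem INV3_all : ∀ i, i < N → (pInvK c3) i = true := by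
  intro i hi
  have hN : N = 56 := rfl
  exact (allR_iff _ _ _).mp INV3_0 i (by omega) (by omega)

theorem INV4_0 : allR 0 56 (pInvK c4) = true := by decide +kernel

theorem INV4_all : ∀ i, i < N → (pInvK c4) i = true := by
  intro i hi
  have hN : N = 56 := rfl
  exact (allR_iff _ _ _).mp INV4_0 i (by omega) (by omega)

theorem INV5_0 : allR 0 56 (pInvK c5) = true := by decide +kernel

theorem INV5_all : ∀ i, i < N → (pInvK c5) i = true := by
  intro i hi
  have hN : N = 56 := rfl
  exact (allR_iff _ _ _).mp INV5_0 i (by omega) (by omega)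

theorem INV6_0 : allR 0 56 (pInvK c6) = true := by decide +kernel

theorem INV6_all : ∀ i, i < N → (pInvK c6) i = true := by
  intro i hi
  have hN : N = 56 := rfl
  exact (allR_iff _ _ _).mp INV6_0 i (by omega) (by omega)

theorem INV_all : ∀ l, l < nl → ∀ i, i < N → pInv l i = true := by
  intro l hl
  unfold nl at hl
  interval_cases l
  · exact INV0_all
  · exact INV1_all
  · exact INV2_all
  · exact INV3_all
  · exact INV4_all
  · exact INV5_all
  · exact INV6_all

theorem tb_spec {i l : ℕ} (hl : l < nl) (hi : i < N) : tb i l < N ∧ tb (tb i l) l = i := by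
  have h := INV_all l hl i hi
  simp only [pInv, pInvK, Bool.and_eq_true, nble_succ, nbeq] at h
  rw [tb_eq, tb_eq]
  exact h

def sg (l i : ℕ) : ℕ := if l < nl ∧ i < N then tb i l else i

theorem sg_sg (l i : ℕ) : sg l (sg l i) = i := by
  unfold sg
  by_cases h : l < nl ∧ i < N
  · obtain ⟨h1, h2⟩ := tb_spec h.1 h.2
    rw [if_pos h, if_pos ⟨h.1, h1⟩, h2]
  · rw [if_neg h, if_neg h]

theorem sg_lt {l i : ℕ} (hi : i < N) : sg l i < N := by
  unfold sg
  split_ifs with h
  · exact (tb_spec h.1 h.2).1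
  · exact hi

theorem sg_ge {l i : ℕ} (hi : N ≤ i) : sg l i = i := by
  unfold sg; rw [if_neg]; omega

def σ (l : ℕ) : Equiv.Perm ℕ := ⟨sg l, sg l, sg_sg l, sg_sg l⟩

theorem σ_apply (l i : ℕ) : σ l i = sg l i := rfl

theorem σ_mul_self (l : ℕ) : σ l * σ l = 1 := by
  ext i; simp [σ_apply, sg_sg]

theorem σ_inv (l : ℕ) : (σ l)⁻¹ = σ l := by
  rw [inv_eq_iff_mul_eq_one]; exact σ_mul_self l

def evalw : List ℕ → ℕ → ℕ
  | [], i => i
  | l :: w, i => evalw w (sg l i)

def permw : List ℕ → Equiv.Perm ℕ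
  | [] => 1
  | l :: w => permw w * σ l

theorem permw_apply (w : List ℕ) (i : ℕ) : permw w i = evalw w i := by
  induction w generalizing i with
  | nil => rfl
  | cons l w ih => simp [permw, evalw, ih, σ_apply]

theorem evalw_ge (w : List ℕ) {i : ℕ} (hi : N ≤ i) : evalw w i = i := by
  induction w with
  | nil => rfl
  | cons l w ih => rw [evalw, sg_ge hi, ih]

theorem evalw_lt (w : List ℕ) {i : ℕ} (hi : i < N) : evalw w i < N := by
  induction w generalizing i with
  | nil => exact hi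
  | cons l w ih => rw [evalw]; exact ih (sg_lt hi)

theorem evalw_eq_evalC (w : List ℕ) (hw : ∀ l ∈ w, l < nl) {i : ℕ} (hi : i < N) :
    evalw w i = evalC w i := by
  induction w generalizing i with
  | nil => rfl
  | cons l w ih =>
    have hl : l < nl := hw l (List.mem_cons_self ..)
    have e : sg l i = lk2 l i := by unfold sg; rw [if_pos ⟨hl, hi⟩, tb_eq]
    show evalw w (sg l i) = evalC (l :: w) i
    rw [evalC_cons, ← e]
    exact ih (fun l' h' => hw l' (List.mem_cons_of_mem _ h')) (sg_lt hi)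

def pW (w : List ℕ) (i : ℕ) : Bool := Nat.beq (evalC w i) i

theorem permw_one {w : List ℕ} (h1 : ltAll w = true) (h2 : ∀ i, i < N → pW w i = true) :
    permw w = 1 := by
  ext i
  rw [permw_apply, Equiv.Perm.one_apply]
  by_cases hi : i < N
  · rw [evalw_eq_evalC w (ltAll_spec h1) hi]
    exact nbeq.mp (h2 i hi)
  · exact evalw_ge w (not_lt.mp hi)

theorem gen_idx (a : Gn) : gen (idx a) = a := by cases a <;> rfl

theorem idx_lt (a : Gn) : idx a < nl := by cases a <;> decide

theorem idx_gen {l : ℕ} (hl : l < nl) : idx (gen l) = l := by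
  unfold nl at hl; interval_cases l <;> rfl

def fG (a : Gn) : Equiv.Perm ℕ := σ (idx a)

def coxW (i j m : ℕ) : List ℕ := (List.replicate m [j, i]).flatten

def coxK (ci cj m : ℕ) : List ℕ := (List.replicate m [cj, ci]).flatten

theorem coxW_map (i j m : ℕ) : (coxW i j m).map colOf = coxK (colOf i) (colOf j) m := by
  induction m with
  | zero => rfl
  | succ m ih =>
    simp only [coxW, coxK, List.replicate_succ, List.flatten_cons, List.map_append, List.map_cons,
      List.map_nil] at ih ⊢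
    rw [ih]

theorem pW_of_pK {w cw : List ℕ} (hm : w.map colOf = cw) (h : ∀ i, i < N → pK cw i = true) :
    ∀ i, i < N → pW w i = true := by
  intro i hi
  rw [pW, evalC_eq_evalK, hm]
  exact h i hi

theorem permw_coxW (i j m : ℕ) : permw (coxW i j m) = (σ i * σ j) ^ m := by
  induction m with
  | zero => rfl
  | succ m ih =>
    rw [pow_succ, ← ih]
    simp [coxW, List.replicate_succ, permw, mul_assoc]

theorem pow_swap {i j m : ℕ} (h : (σ j * σ i) ^ m = 1) : (σ i * σ j) ^ m = 1 := by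
  have e : σ i * σ j = (σ j * σ i)⁻¹ := by rw [mul_inv_rev, σ_inv, σ_inv]
  rw [e, inv_pow, h, inv_one]

def PC (i j : ℕ) : Prop := (σ i * σ j) ^ coxLabel WE7.edges (gen i) (gen j) = 1

theorem CX_0_1_0 : allR 0 56 (pK (coxK c0 c1 3)) = true := by decide +kernel

theorem CX_0_1_all : ∀ i, i < N → (pK (coxK c0 c1 3)) i = true := by
  intro i hi
  have hN : N = 56 := rfl
  exact (allR_iff _ _ _).mp CX_0_1_0 i (by omega) (by omega)

theorem CX_0_2_0 : allR 0 56 (pK (coxK c0 c2 2)) = true := by decide +kernel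

theorem CX_0_2_all : ∀ i, i < N → (pK (coxK c0 c2 2)) i = true := by
  intro i hi
  have hN : N = 56 := rfl
  exact (allR_iff _ _ _).mp CX_0_2_0 i (by omega) (by omega)

theorem CX_0_3_0 : allR 0 56 (pK (coxK c0 c3 2)) = true := by decide +kernel

theorem CX_0_3_all : ∀ i, i < N → (pK (coxK c0 c3 2)) i = true := by
  intro i hi
  have hN : N = 56 := rfl
  exact (allR_iff _ _ _).mp CX_0_3_0 i (by omega) (by omega)

theorem CX_0_4_0 : allR 0 56 (pK (coxK c0 c4 2)) = true := by decide +kernel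

theorem CX_0_4_all : ∀ i, i < N → (pK (coxK c0 c4 2)) i = true := by
  intro i hi
  have hN : N = 56 := rfl
  exact (allR_iff _ _ _).mp CX_0_4_0 i (by omega) (by omega)

theorem CX_0_5_0 : allR 0 56 (pK (coxK c0 c5 2)) = true := by decide +kernel

theorem CX_0_5_all : ∀ i, i < N → (pK (coxK c0 c5 2)) i = true := by
  intro i hi
  have hN : N = 56 := rfl
  exact (allR_iff _ _ _).mp CX_0_5_0 i (by omega) (by omega)

theorem CX_0_6_0 : allR 0 56 (pK (coxK c0 c6 2)) = true := by decide +kernel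

theorem CX_0_6_all : ∀ i, i < N → (pK (coxK c0 c6 2)) i = true := by
  intro i hi
  have hN : N = 56 := rfl
  exact (allR_iff _ _ _).mp CX_0_6_0 i (by omega) (by omega)

theorem CX_1_2_0 : allR 0 56 (pK (coxK c1 c2 3)) = true := by decide +kernel

theorem CX_1_2_all : ∀ i, i < N → (pK (coxK c1 c2 3)) i = true := by
  intro i hi
  have hN : N = 56 := rfl
  exact (allR_iff _ _ _).mp CX_1_2_0 i (by omega) (by omega)

theorem CX_1_3_0 : allR 0 56 (pK (coxK c1 c3 2)) = true := by decide +kernel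

theorem CX_1_3_all : ∀ i, i < N → (pK (coxK c1 c3 2)) i = true := by
  intro i hi
  have hN : N = 56 := rfl
  exact (allR_iff _ _ _).mp CX_1_3_0 i (by omega) (by omega)

theorem CX_1_4_0 : allR 0 56 (pK (coxK c1 c4 2)) = true := by decide +kernel

theorem CX_1_4_all : ∀ i, i < N → (pK (coxK c1 c4 2)) i = true := by
  intro i hi
  have hN : N = 56 := rfl
  exact (allR_iff _ _ _).mp CX_1_4_0 i (by omega) (by omega)

theorem CX_1_5_0 : allR 0 56 (pK (coxK c1 c5 2)) = true := by decide +kernel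

theorem CX_1_5_all : ∀ i, i < N → (pK (coxK c1 c5 2)) i = true := by
  intro i hi
  have hN : N = 56 := rfl
  exact (allR_iff _ _ _).mp CX_1_5_0 i (by omega) (by omega)

theorem CX_1_6_0 : allR 0 56 (pK (coxK c1 c6 2)) = true := by decide +kernel

theorem CX_1_6_all : ∀ i, i < N → (pK (coxK c1 c6 2)) i = true := by
  intro i hi
  have hN : N = 56 := rfl
  exact (allR_iff _ _ _).mp CX_1_6_0 i (by omega) (by omega)

theorem CX_2_3_0 : allR 0 56 (pK (coxK c2 c3 3)) = true := by decide +kernel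

theorem CX_2_3_all : ∀ i, i < N → (pK (coxK c2 c3 3)) i = true := by
  intro i hi
  have hN : N = 56 := rfl
  exact (allR_iff _ _ _).mp CX_2_3_0 i (by omega) (by omega)

theorem CX_2_4_0 : allR 0 56 (pK (coxK c2 c4 2)) = true := by decide +kernel

theorem CX_2_4_all : ∀ i, i < N → (pK (coxK c2 c4 2)) i = true := by
  intro i hi
  have hN : N = 56 := rfl
  exact (allR_iff _ _ _).mp CX_2_4_0 i (by omega) (by omega)

theorem CX_2_5_0 : allR 0 56 (pK (coxK c2 c5 2)) = true := by decide +kernel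

theorem CX_2_5_all : ∀ i, i < N → (pK (coxK c2 c5 2)) i = true := by
  intro i hi
  have hN : N = 56 := rfl
  exact (allR_iff _ _ _).mp CX_2_5_0 i (by omega) (by omega)

theorem CX_2_6_0 : allR 0 56 (pK (coxK c2 c6 2)) = true := by decide +kernel

theorem CX_2_6_all : ∀ i, i < N → (pK (coxK c2 c6 2)) i = true := by
  intro i hi
  have hN : N = 56 := rfl
  exact (allR_iff _ _ _).mp CX_2_6_0 i (by omega) (by omega)

theorem CX_3_4_0 : allR 0 56 (pK (coxK c3 c4 3)) = true := by decide +kernel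

theorem CX_3_4_all : ∀ i, i < N → (pK (coxK c3 c4 3)) i = true := by
  intro i hi
  have hN : N = 56 := rfl
  exact (allR_iff _ _ _).mp CX_3_4_0 i (by omega) (by omega)

theorem CX_3_5_0 : allR 0 56 (pK (coxK c3 c5 2)) = true := by decide +kernel

theorem CX_3_5_all : ∀ i, i < N → (pK (coxK c3 c5 2)) i = true := by
  intro i hi
  have hN : N = 56 := rfl
  exact (allR_iff _ _ _).mp CX_3_5_0 i (by omega) (by omega)

theorem CX_3_6_0 : allR 0 56 (pK (coxK c3 c6 3)) = true := by decide +kernel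

theorem CX_3_6_all : ∀ i, i < N → (pK (coxK c3 c6 3)) i = true := by
  intro i hi
  have hN : N = 56 := rfl
  exact (allR_iff _ _ _).mp CX_3_6_0 i (by omega) (by omega)

theorem CX_4_5_0 : allR 0 56 (pK (coxK c4 c5 3)) = true := by decide +kernel

theorem CX_4_5_all : ∀ i, i < N → (pK (coxK c4 c5 3)) i = true := by
  intro i hi
  have hN : N = 56 := rfl
  exact (allR_iff _ _ _).mp CX_4_5_0 i (by omega) (by omega)

theorem CX_4_6_0 : allR 0 56 (pK (coxK c4 c6 2)) = true := by decide +kernel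

theorem CX_4_6_all : ∀ i, i < N → (pK (coxK c4 c6 2)) i = true := by
  intro i hi
  have hN : N = 56 := rfl
  exact (allR_iff _ _ _).mp CX_4_6_0 i (by omega) (by omega)

theorem CX_5_6_0 : allR 0 56 (pK (coxK c5 c6 2)) = true := by decide +kernel

theorem CX_5_6_all : ∀ i, i < N → (pK (coxK c5 c6 2)) i = true := by
  intro i hi
  have hN : N = 56 := rfl
  exact (allR_iff _ _ _).mp CX_5_6_0 i (by omega) (by omega)


theorem HC_0_0 : PC 0 0 := by
  unfold PC
  rw [show coxLabel WE7.edges (gen 0) (gen 0) = 1 from by decide, pow_one]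
  exact σ_mul_self 0
theorem HC_0_1 : PC 0 1 := by
  unfold PC
  rw [show coxLabel WE7.edges (gen 0) (gen 1) = 3 from by decide, ← permw_coxW]
  exact permw_one (by decide) (pW_of_pK (coxW_map 0 1 3) CX_0_1_all)
theorem HC_0_2 : PC 0 2 := by
  unfold PC
  rw [show coxLabel WE7.edges (gen 0) (gen 2) = 2 from by decide, ← permw_coxW]
  exact permw_one (by decide) (pW_of_pK (coxW_map 0 2 2) CX_0_2_all)
theorem HC_0_3 : PC 0 3 := by
  unfold PC
  rw [show coxLabel WE7.edges (gen 0) (gen 3) = 2 from by decide, ← permw_coxW]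
  exact permw_one (by decide) (pW_of_pK (coxW_map 0 3 2) CX_0_3_all)
theorem HC_0_4 : PC 0 4 := by
  unfold PC
  rw [show coxLabel WE7.edges (gen 0) (gen 4) = 2 from by decide, ← permw_coxW]
  exact permw_one (by decide) (pW_of_pK (coxW_map 0 4 2) CX_0_4_all)
theorem HC_0_5 : PC 0 5 := by
  unfold PC
  rw [show coxLabel WE7.edges (gen 0) (gen 5) = 2 from by decide, ← permw_coxW]
  exact permw_one (by decide) (pW_of_pK (coxW_map 0 5 2) CX_0_5_all)
theorem HC_0_6 : PC 0 6 := by
  unfold PC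
  rw [show coxLabel WE7.edges (gen 0) (gen 6) = 2 from by decide, ← permw_coxW]
  exact permw_one (by decide) (pW_of_pK (coxW_map 0 6 2) CX_0_6_all)
theorem HC_1_1 : PC 1 1 := by
  unfold PC
  rw [show coxLabel WE7.edges (gen 1) (gen 1) = 1 from by decide, pow_one]
  exact σ_mul_self 1
theorem HC_1_2 : PC 1 2 := by
  unfold PC
  rw [show coxLabel WE7.edges (gen 1) (gen 2) = 3 from by decide, ← permw_coxW]
  exact permw_one (by decide) (pW_of_pK (coxW_map 1 2 3) CX_1_2_all)
theorem HC_1_3 : PC 1 3 := by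
  unfold PC
  rw [show coxLabel WE7.edges (gen 1) (gen 3) = 2 from by decide, ← permw_coxW]
  exact permw_one (by decide) (pW_of_pK (coxW_map 1 3 2) CX_1_3_all)
theorem HC_1_4 : PC 1 4 := by
  unfold PC
  rw [show coxLabel WE7.edges (gen 1) (gen 4) = 2 from by decide, ← permw_coxW]
  exact permw_one (by decide) (pW_of_pK (coxW_map 1 4 2) CX_1_4_all)
theorem HC_1_5 : PC 1 5 := by
  unfold PC
  rw [show coxLabel WE7.edges (gen 1) (gen 5) = 2 from by decide, ← permw_coxW]
  exact permw_one (by decide) (pW_of_pK (coxW_map 1 5 2) CX_1_5_all)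
theorem HC_1_6 : PC 1 6 := by
  unfold PC
  rw [show coxLabel WE7.edges (gen 1) (gen 6) = 2 from by decide, ← permw_coxW]
  exact permw_one (by decide) (pW_of_pK (coxW_map 1 6 2) CX_1_6_all)
theorem HC_2_2 : PC 2 2 := by
  unfold PC
  rw [show coxLabel WE7.edges (gen 2) (gen 2) = 1 from by decide, pow_one]
  exact σ_mul_self 2
theorem HC_2_3 : PC 2 3 := by
  unfold PC
  rw [show coxLabel WE7.edges (gen 2) (gen 3) = 3 from by decide, ← permw_coxW]
  exact permw_one (by decide) (pW_of_pK (coxW_map 2 3 3) CX_2_3_all)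
theorem HC_2_4 : PC 2 4 := by
  unfold PC
  rw [show coxLabel WE7.edges (gen 2) (gen 4) = 2 from by decide, ← permw_coxW]
  exact permw_one (by decide) (pW_of_pK (coxW_map 2 4 2) CX_2_4_all)
theorem HC_2_5 : PC 2 5 := by
  unfold PC
  rw [show coxLabel WE7.edges (gen 2) (gen 5) = 2 from by decide, ← permw_coxW]
  exact permw_one (by decide) (pW_of_pK (coxW_map 2 5 2) CX_2_5_all)
theorem HC_2_6 : PC 2 6 := by
  unfold PC
  rw [show coxLabel WE7.edges (gen 2) (gen 6) = 2 from by decide, ← permw_coxW]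
  exact permw_one (by decide) (pW_of_pK (coxW_map 2 6 2) CX_2_6_all)
theorem HC_3_3 : PC 3 3 := by
  unfold PC
  rw [show coxLabel WE7.edges (gen 3) (gen 3) = 1 from by decide, pow_one]
  exact σ_mul_self 3
theorem HC_3_4 : PC 3 4 := by
  unfold PC
  rw [show coxLabel WE7.edges (gen 3) (gen 4) = 3 from by decide, ← permw_coxW]
  exact permw_one (by decide) (pW_of_pK (coxW_map 3 4 3) CX_3_4_all)
theorem HC_3_5 : PC 3 5 := by
  unfold PC
  rw [show coxLabel WE7.edges (gen 3) (gen 5) = 2 from by decide, ← permw_coxW]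
  exact permw_one (by decide) (pW_of_pK (coxW_map 3 5 2) CX_3_5_all)
theorem HC_3_6 : PC 3 6 := by
  unfold PC
  rw [show coxLabel WE7.edges (gen 3) (gen 6) = 3 from by decide, ← permw_coxW]
  exact permw_one (by decide) (pW_of_pK (coxW_map 3 6 3) CX_3_6_all)
theorem HC_4_4 : PC 4 4 := by
  unfold PC
  rw [show coxLabel WE7.edges (gen 4) (gen 4) = 1 from by decide, pow_one]
  exact σ_mul_self 4
theorem HC_4_5 : PC 4 5 := by
  unfold PC
  rw [show coxLabel WE7.edges (gen 4) (gen 5) = 3 from by decide, ← permw_coxW]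
  exact permw_one (by decide) (pW_of_pK (coxW_map 4 5 3) CX_4_5_all)
theorem HC_4_6 : PC 4 6 := by
  unfold PC
  rw [show coxLabel WE7.edges (gen 4) (gen 6) = 2 from by decide, ← permw_coxW]
  exact permw_one (by decide) (pW_of_pK (coxW_map 4 6 2) CX_4_6_all)
theorem HC_5_5 : PC 5 5 := by
  unfold PC
  rw [show coxLabel WE7.edges (gen 5) (gen 5) = 1 from by decide, pow_one]
  exact σ_mul_self 5
theorem HC_5_6 : PC 5 6 := by
  unfold PC
  rw [show coxLabel WE7.edges (gen 5) (gen 6) = 2 from by decide, ← permw_coxW]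
  exact permw_one (by decide) (pW_of_pK (coxW_map 5 6 2) CX_5_6_all)
theorem HC_6_6 : PC 6 6 := by
  unfold PC
  rw [show coxLabel WE7.edges (gen 6) (gen 6) = 1 from by decide, pow_one]
  exact σ_mul_self 6
theorem HC_1_0 : PC 1 0 := by
  have h := HC_0_1
  unfold PC at h ⊢
  rw [show coxLabel WE7.edges (gen 0) (gen 1) = 3 from by decide] at h
  rw [show coxLabel WE7.edges (gen 1) (gen 0) = 3 from by decide]
  exact pow_swap h
theorem HC_2_0 : PC 2 0 := by
  have h := HC_0_2
  unfold PC at h ⊢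
  rw [show coxLabel WE7.edges (gen 0) (gen 2) = 2 from by decide] at h
  rw [show coxLabel WE7.edges (gen 2) (gen 0) = 2 from by decide]
  exact pow_swap h
theorem HC_2_1 : PC 2 1 := by
  have h := HC_1_2
  unfold PC at h ⊢
  rw [show coxLabel WE7.edges (gen 1) (gen 2) = 3 from by decide] at h
  rw [show coxLabel WE7.edges (gen 2) (gen 1) = 3 from by decide]
  exact pow_swap h
theorem HC_3_0 : PC 3 0 := by
  have h := HC_0_3
  unfold PC at h ⊢
  rw [show coxLabel WE7.edges (gen 0) (gen 3) = 2 from by decide] at h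
  rw [show coxLabel WE7.edges (gen 3) (gen 0) = 2 from by decide]
  exact pow_swap h
theorem HC_3_1 : PC 3 1 := by
  have h := HC_1_3
  unfold PC at h ⊢
  rw [show coxLabel WE7.edges (gen 1) (gen 3) = 2 from by decide] at h
  rw [show coxLabel WE7.edges (gen 3) (gen 1) = 2 from by decide]
  exact pow_swap h
theorem HC_3_2 : PC 3 2 := by
  have h := HC_2_3
  unfold PC at h ⊢
  rw [show coxLabel WE7.edges (gen 2) (gen 3) = 3 from by decide] at h
  rw [show coxLabel WE7.edges (gen 3) (gen 2) = 3 from by decide]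
  exact pow_swap h
theorem HC_4_0 : PC 4 0 := by
  have h := HC_0_4
  unfold PC at h ⊢
  rw [show coxLabel WE7.edges (gen 0) (gen 4) = 2 from by decide] at h
  rw [show coxLabel WE7.edges (gen 4) (gen 0) = 2 from by decide]
  exact pow_swap h
theorem HC_4_1 : PC 4 1 := by
  have h := HC_1_4
  unfold PC at h ⊢
  rw [show coxLabel WE7.edges (gen 1) (gen 4) = 2 from by decide] at h
  rw [show coxLabel WE7.edges (gen 4) (gen 1) = 2 from by decide]
  exact pow_swap h
theorem HC_4_2 : PC 4 2 := by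
  have h := HC_2_4
  unfold PC at h ⊢
  rw [show coxLabel WE7.edges (gen 2) (gen 4) = 2 from by decide] at h
  rw [show coxLabel WE7.edges (gen 4) (gen 2) = 2 from by decide]
  exact pow_swap h
theorem HC_4_3 : PC 4 3 := by
  have h := HC_3_4
  unfold PC at h ⊢
  rw [show coxLabel WE7.edges (gen 3) (gen 4) = 3 from by decide] at h
  rw [show coxLabel WE7.edges (gen 4) (gen 3) = 3 from by decide]
  exact pow_swap h
theorem HC_5_0 : PC 5 0 := by
  have h := HC_0_5
  unfold PC at h ⊢
  rw [show coxLabel WE7.edges (gen 0) (gen 5) = 2 from by decide] at h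
  rw [show coxLabel WE7.edges (gen 5) (gen 0) = 2 from by decide]
  exact pow_swap h
theorem HC_5_1 : PC 5 1 := by
  have h := HC_1_5
  unfold PC at h ⊢
  rw [show coxLabel WE7.edges (gen 1) (gen 5) = 2 from by decide] at h
  rw [show coxLabel WE7.edges (gen 5) (gen 1) = 2 from by decide]
  exact pow_swap h
theorem HC_5_2 : PC 5 2 := by
  have h := HC_2_5
  unfold PC at h ⊢
  rw [show coxLabel WE7.edges (gen 2) (gen 5) = 2 from by decide] at h
  rw [show coxLabel WE7.edges (gen 5) (gen 2) = 2 from by decide]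
  exact pow_swap h
theorem HC_5_3 : PC 5 3 := by
  have h := HC_3_5
  unfold PC at h ⊢
  rw [show coxLabel WE7.edges (gen 3) (gen 5) = 2 from by decide] at h
  rw [show coxLabel WE7.edges (gen 5) (gen 3) = 2 from by decide]
  exact pow_swap h
theorem HC_5_4 : PC 5 4 := by
  have h := HC_4_5
  unfold PC at h ⊢
  rw [show coxLabel WE7.edges (gen 4) (gen 5) = 3 from by decide] at h
  rw [show coxLabel WE7.edges (gen 5) (gen 4) = 3 from by decide]
  exact pow_swap h
theorem HC_6_0 : PC 6 0 := by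
  have h := HC_0_6
  unfold PC at h ⊢
  rw [show coxLabel WE7.edges (gen 0) (gen 6) = 2 from by decide] at h
  rw [show coxLabel WE7.edges (gen 6) (gen 0) = 2 from by decide]
  exact pow_swap h
theorem HC_6_1 : PC 6 1 := by
  have h := HC_1_6
  unfold PC at h ⊢
  rw [show coxLabel WE7.edges (gen 1) (gen 6) = 2 from by decide] at h
  rw [show coxLabel WE7.edges (gen 6) (gen 1) = 2 from by decide]
  exact pow_swap h
theorem HC_6_2 : PC 6 2 := by
  have h := HC_2_6
  unfold PC at h ⊢
  rw [show coxLabel WE7.edges (gen 2) (gen 6) = 2 from by decide] at h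
  rw [show coxLabel WE7.edges (gen 6) (gen 2) = 2 from by decide]
  exact pow_swap h
theorem HC_6_3 : PC 6 3 := by
  have h := HC_3_6
  unfold PC at h ⊢
  rw [show coxLabel WE7.edges (gen 3) (gen 6) = 3 from by decide] at h
  rw [show coxLabel WE7.edges (gen 6) (gen 3) = 3 from by decide]
  exact pow_swap h
theorem HC_6_4 : PC 6 4 := by
  have h := HC_4_6
  unfold PC at h ⊢
  rw [show coxLabel WE7.edges (gen 4) (gen 6) = 2 from by decide] at h
  rw [show coxLabel WE7.edges (gen 6) (gen 4) = 2 from by decide]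
  exact pow_swap h
theorem HC_6_5 : PC 6 5 := by
  have h := HC_5_6
  unfold PC at h ⊢
  rw [show coxLabel WE7.edges (gen 5) (gen 6) = 2 from by decide] at h
  rw [show coxLabel WE7.edges (gen 6) (gen 5) = 2 from by decide]
  exact pow_swap h

theorem hcoxT : ∀ t, t < nl * nl → PC (t / nl) (t % nl) := by
  intro t ht
  have ht' : t < 49 := ht
  interval_cases t
  · exact HC_0_0
  · exact HC_0_1
  · exact HC_0_2
  · exact HC_0_3
  · exact HC_0_4
  · exact HC_0_5
  · exact HC_0_6
  · exact HC_1_0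
  · exact HC_1_1
  · exact HC_1_2
  · exact HC_1_3
  · exact HC_1_4
  · exact HC_1_5
  · exact HC_1_6
  · exact HC_2_0
  · exact HC_2_1
  · exact HC_2_2
  · exact HC_2_3
  · exact HC_2_4
  · exact HC_2_5
  · exact HC_2_6
  · exact HC_3_0
  · exact HC_3_1
  · exact HC_3_2
  · exact HC_3_3
  · exact HC_3_4
  · exact HC_3_5
  · exact HC_3_6
  · exact HC_4_0
  · exact HC_4_1
  · exact HC_4_2
  · exact HC_4_3
  · exact HC_4_4
  · exact HC_4_5
  · exact HC_4_6
  · exact HC_5_0
  · exact HC_5_1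
  · exact HC_5_2
  · exact HC_5_3
  · exact HC_5_4
  · exact HC_5_5
  · exact HC_5_6
  · exact HC_6_0
  · exact HC_6_1
  · exact HC_6_2
  · exact HC_6_3
  · exact HC_6_4
  · exact HC_6_5
  · exact HC_6_6

theorem hcox (x y : Gn) : (fG x * fG y) ^ coxLabel WE7.edges x y = 1 := by
  have hx := idx_lt x
  have hy := idx_lt y
  have ht : idx x * nl + idx y < nl * nl := by
    have : idx x * nl + idx y < idx x * nl + nl := by omega
    calc idx x * nl + idx y < idx x * nl + nl := this
      _ = (idx x + 1) * nl := by ring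
      _ ≤ nl * nl := Nat.mul_le_mul_right nl hx
  have h := hcoxT _ ht
  have e1 : (idx x * nl + idx y) / nl = idx x := by
    rw [Nat.add_comm, Nat.add_mul_div_right _ _ (by decide : 0 < nl), Nat.div_eq_of_lt hy, zero_add]
  have e2 : (idx x * nl + idx y) % nl = idx y := by
    rw [Nat.add_comm, Nat.add_mul_mod_self_right, Nat.mod_eq_of_lt hy]
  rw [e1, e2] at h
  unfold PC at h
  rw [gen_idx, gen_idx] at h
  exact h

theorem hextra : ∀ r ∈ WE7.extra, FreeGroup.lift fG r = 1 := by
  intro r hr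
  simp [WE7.extra] at hr

theorem hrel : ∀ r ∈ Rels, FreeGroup.lift fG r = 1 := by
  intro r hr
  rcases hr with ⟨x, _, y, _, rfl⟩ | hr
  · rw [map_pow, map_mul, FreeGroup.lift_apply_of, FreeGroup.lift_apply_of]
    exact hcox x y
  · exact hextra r hr

def phi : G →* Equiv.Perm ℕ := PresentedGroup.toGroup hrel

theorem phi_mk (x : FreeGroup Gn) : phi (PresentedGroup.mk Rels x) = FreeGroup.lift fG x := rfl

theorem phi_gG {l : ℕ} (hl : l < nl) : phi (gG l) = σ l := by
  unfold gG phi
  rw [PresentedGroup.toGroup.of, fG, idx_gen hl]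

theorem Hs_eq : Hs = (Subgroup.closure subS).map (PresentedGroup.mk Rels) := rfl

theorem Y0 : phi (PresentedGroup.mk Rels (WE7.b)) = permw (subW 0) := by
  rw [phi_mk, show subW 0 = [1] from rfl]
  simp only [map_mul, map_inv, map_pow, FreeGroup.lift_apply_of, fG, idx]
  try simp only [pow_succ, pow_zero, one_mul, mul_inv_rev, σ_inv, mul_assoc]
  simp only [permw, one_mul, mul_assoc]

theorem Y1 : phi (PresentedGroup.mk Rels (WE7.c)) = permw (subW 1) := by
  rw [phi_mk, show subW 1 = [2] from rfl]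
  simp only [map_mul, map_inv, map_pow, FreeGroup.lift_apply_of, fG, idx]
  try simp only [pow_succ, pow_zero, one_mul, mul_inv_rev, σ_inv, mul_assoc]
  simp only [permw, one_mul, mul_assoc]

theorem Y2 : phi (PresentedGroup.mk Rels (WE7.d)) = permw (subW 2) := by
  rw [phi_mk, show subW 2 = [3] from rfl]
  simp only [map_mul, map_inv, map_pow, FreeGroup.lift_apply_of, fG, idx]
  try simp only [pow_succ, pow_zero, one_mul, mul_inv_rev, σ_inv, mul_assoc]
  simp only [permw, one_mul, mul_assoc]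

theorem Y3 : phi (PresentedGroup.mk Rels (WE7.e)) = permw (subW 3) := by
  rw [phi_mk, show subW 3 = [4] from rfl]
  simp only [map_mul, map_inv, map_pow, FreeGroup.lift_apply_of, fG, idx]
  try simp only [pow_succ, pow_zero, one_mul, mul_inv_rev, σ_inv, mul_assoc]
  simp only [permw, one_mul, mul_assoc]

theorem Y4 : phi (PresentedGroup.mk Rels (WE7.f)) = permw (subW 4) := by
  rw [phi_mk, show subW 4 = [5] from rfl]
  simp only [map_mul, map_inv, map_pow, FreeGroup.lift_apply_of, fG, idx]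
  try simp only [pow_succ, pow_zero, one_mul, mul_inv_rev, σ_inv, mul_assoc]
  simp only [permw, one_mul, mul_assoc]

theorem Y5 : phi (PresentedGroup.mk Rels (WE7.h)) = permw (subW 5) := by
  rw [phi_mk, show subW 5 = [6] from rfl]
  simp only [map_mul, map_inv, map_pow, FreeGroup.lift_apply_of, fG, idx]
  try simp only [pow_succ, pow_zero, one_mul, mul_inv_rev, σ_inv, mul_assoc]
  simp only [permw, one_mul, mul_assoc]

theorem subgen_cases (P : FreeGroup Gn → Prop) (h0 : P (WE7.b)) (h1 : P (WE7.c)) (h2 : P (WE7.d)) (h3 : P (WE7.e)) (h4 : P (WE7.f)) (h5 : P (WE7.h)) :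
    ∀ s ∈ subS, P s := by
  intro s hs
  simp only [subS, Set.mem_insert_iff, Set.mem_singleton_iff] at hs
  rcases hs with rfl | rfl | rfl | rfl | rfl | rfl
  · exact h0
  · exact h1
  · exact h2
  · exact h3
  · exact h4
  · exact h5

theorem subgen_perm : ∀ s ∈ subS, ∃ k, k < nsub ∧ phi (PresentedGroup.mk Rels s) = permw (subW k) :=
  subgen_cases _ ⟨0, by decide, Y0⟩ ⟨1, by decide, Y1⟩ ⟨2, by decide, Y2⟩ ⟨3, by decide, Y3⟩ ⟨4, by decide, Y4⟩ ⟨5, by decide, Y5⟩

theorem subW_mem : ∀ k, k < nsub → ∃ s ∈ subS, phi (PresentedGroup.mk Rels s) = permw (subW k) := by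
  intro k hk
  unfold nsub at hk
  interval_cases k
  · exact ⟨WE7.b, (Or.inl rfl), Y0⟩
  · exact ⟨WE7.c, (Or.inr (Or.inl rfl)), Y1⟩
  · exact ⟨WE7.d, (Or.inr (Or.inr (Or.inl rfl))), Y2⟩
  · exact ⟨WE7.e, (Or.inr (Or.inr (Or.inr (Or.inl rfl)))), Y3⟩
  · exact ⟨WE7.f, (Or.inr (Or.inr (Or.inr (Or.inr (Or.inl rfl))))), Y4⟩
  · exact ⟨WE7.h, (Or.inr (Or.inr (Or.inr (Or.inr (Or.inr rfl))))), Y5⟩

theorem phi_ge (g : G) {i : ℕ} (hi : N ≤ i) : phi g i = i := by
  induction g using PresentedGroup.induction_on with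
  | H z =>
    rw [phi_mk]
    induction z using FreeGroup.induction_on with
    | C1 => simp
    | of a => rw [FreeGroup.lift_apply_of, fG, σ_apply, sg_ge hi]
    | inv_of a h =>
      rw [map_inv, Equiv.Perm.inv_eq_iff_eq]
      exact h.symm
    | mul x y hx hy => rw [map_mul, Equiv.Perm.mul_apply, hy, hx]

theorem phi_lt (g : G) {i : ℕ} (hi : i < N) : phi g i < N := by
  by_contra hcon
  have h1 := phi_ge g⁻¹ (not_lt.mp hcon)
  rw [map_inv, Equiv.Perm.inv_eq_iff_eq] at h1
  have h2 := (phi g).injective h1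
  omega

theorem Hs_le (T : Subgroup (Equiv.Perm ℕ)) (hT : ∀ k, k < nsub → permw (subW k) ∈ T) :
    ∀ h ∈ Hs, phi h ∈ T := by
  intro h hh
  rw [Hs_eq, Subgroup.mem_map] at hh
  obtain ⟨s, hs, rfl⟩ := hh
  induction hs using Subgroup.closure_induction with
  | mem x hx =>
    obtain ⟨k, hk, e⟩ := subgen_perm x hx
    rw [e]; exact hT k hk
  | one => rw [map_one, map_one]; exact T.one_mem
  | mul x y _ _ hx hy => rw [map_mul, map_mul]; exact T.mul_mem hx hy
  | inv x _ hx => rw [map_inv, map_inv]; exact T.inv_mem hx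

def chkSubL : Bool := allD nsub fun k => ltAll (subW k)

theorem chkSubL_ok : chkSubL = true := by decide +kernel

theorem subW_lt {k : ℕ} (hk : k < nsub) : ∀ l ∈ subW k, l < nl := by
  have h := chkSubL_ok
  simp only [chkSubL, allD_iff] at h
  exact ltAll_spec (h k hk)

def chkSub0 : Bool := allD nsub fun k => Nat.beq (evalC (subW k) 0) 0

theorem chkSub0_ok : chkSub0 = true := by decide +kernel

theorem N_pos : 0 < N := by decide

theorem hH : ∀ h ∈ Hs, phi h 0 = 0 := by
  intro h hh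
  have := Hs_le (MulAction.stabilizer (Equiv.Perm ℕ) (0 : ℕ)) (fun k hk => by
    rw [MulAction.mem_stabilizer_iff, Equiv.Perm.smul_def, permw_apply,
      evalw_eq_evalC _ (subW_lt hk) N_pos]
    have h := chkSub0_ok
    simp only [chkSub0, allD_iff, nbeq] at h
    exact h k hk) h hh
  rwa [MulAction.mem_stabilizer_iff, Equiv.Perm.smul_def] at this

abbrev psiQ : Q → ℕ := TCG.psi Hs phi hH

theorem psi_act {l : ℕ} (hl : l < nl) (q : Q) : psiQ (act l q) = sg l (psiQ q) := by
  unfold act psiQ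
  rw [TCG.psi_smul, phi_gG hl, σ_apply]

theorem psi_n0 : psiQ n0 = 0 := by
  unfold n0 psiQ
  rw [TCG.psi_mk, map_one, Equiv.Perm.one_apply]

def parK (i : ℕ) : ℕ := Nat.land (Nat.shiftRight parT (Nat.mul 6 i)) 63

def pletK (i : ℕ) : ℕ := Nat.land (Nat.shiftRight pletT (Nat.mul 3 i)) 7

theorem parK_eq (i : ℕ) : parK i = par i := rfl

theorem pletK_eq (i : ℕ) : pletK i = plet i := rfl

def pPar (i : ℕ) : Bool :=
  Nat.beq i 0 || (Nat.ble (Nat.succ (parK i)) i && Nat.ble (Nat.succ (pletK i)) nl &&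
    Nat.beq (lk2 (pletK i) (parK i)) i)

theorem PAR_0 : allR 0 56 (pPar) = true := by decide +kernel

theorem PAR_all : ∀ i, i < N → (pPar) i = true := by
  intro i hi
  have hN : N = 56 := rfl
  exact (allR_iff _ _ _).mp PAR_0 i (by omega) (by omega)

theorem par_spec {i : ℕ} (hi : i < N) (h0 : 0 < i) :
    par i < i ∧ plet i < nl ∧ tb (par i) (plet i) = i := by
  have h := PAR_all i hi
  simp only [pPar, parK_eq, pletK_eq, Bool.or_eq_true, Bool.and_eq_true, nble_succ, nbeq] at h
  rcases h with h | h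
  · omega
  · exact ⟨h.1.1, h.1.2, by rw [tb_eq]; exact h.2⟩

theorem hpsi : ∀ i, i < N → psiQ (nd i) = i := by
  intro i
  induction i using Nat.strong_induction_on with
  | _ i ih =>
    intro hi
    rcases Nat.eq_zero_or_pos i with rfl | h0
    · rw [nd_zero, psi_n0]
    · obtain ⟨h1, h2, h3⟩ := par_spec hi h0
      have hc : chk i (par i) (plet i) = true := by
        simp [chk, h0, hi, h1]
      rw [nd_step hc, psi_act h2, ih _ h1 (lt_trans h1 hi)]
      unfold sg
      rw [if_pos ⟨h2, lt_trans h1 hi⟩, h3]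

theorem hsurj : ∀ q : Q, ∃ i, i < N ∧ q = nd i := by
  have hgen : Subgroup.closure {g : G | ∃ l, l < nl ∧ g = gG l} = ⊤ := by
    rw [eq_top_iff, ← PresentedGroup.closure_range_of]
    apply Subgroup.closure_mono
    rintro _ ⟨a, rfl⟩
    exact ⟨idx a, idx_lt a, by rw [gG, gen_idx]⟩
  have hall := TCG.exists_nd_of_closed Hs _ hgen
    (by rintro _ ⟨l, hl, rfl⟩; exact ⟨l, hl, gG_inv l⟩) nd nd_zero
    (by
      rintro i _ ⟨l, hl, rfl⟩
      by_cases hi : i < N
      · exact closedN i hi l hl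
      · rw [nd_ge (not_lt.mp hi), ← nd_zero]
        exact closedN 0 N_pos l hl)
  intro q
  obtain ⟨i, rfl⟩ := hall q
  by_cases hi : i < N
  · exact ⟨i, hi, rfl⟩
  · exact ⟨0, N_pos, by rw [nd_ge (not_lt.mp hi), nd_zero]⟩

theorem card_Q : Nat.card Q = N := (TCG.card_eq Hs phi hH N nd hsurj hpsi).1

theorem psi_inj : Function.Injective psiQ := (TCG.card_eq Hs phi hH N nd hsurj hpsi).2


end Cfsg.Agent.Helper17.WE7TC
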