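import Cfsg.Agent.Helper17.WE7TC.Lemmas

set_option autoImplicit false
set_option linter.all false

noncomputable section

namespace Cfsg.Agent.Helper17.WE7TC

theorem F1 : act 1 n0 = n0 := d21_0 B0 
theorem F2 : act 2 n0 = n0 := d22_0 B1 
theorem F3 : act 3 n0 = n0 := d23_0 B2 
theorem F4 : act 4 n0 = n0 := d24_0 B3 
theorem F5 : act 5 n0 = n0 := d25_0 B4 
theorem F6 : act 6 n0 = n0 := d26_0 B5 
def n1 : Q := act 0 n0
theorem D1 : act 0 n0 = n1 := rfl
theorem F7 : act 2 n1 = n1 := d1_2 F2 D1 (iv D1)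
theorem F8 : act 3 n1 = n1 := d2_2 F3 D1 (iv D1)
theorem F9 : act 4 n1 = n1 := d3_2 F4 D1 (iv D1)
theorem F10 : act 5 n1 = n1 := d4_2 F5 D1 (iv D1)
theorem F11 : act 6 n1 = n1 := d5_2 F6 D1 (iv D1)
def n2 : Q := act 1 n1
theorem D2 : act 1 n1 = n2 := rfl
theorem F12 : act 0 n2 = n2 := d0_1 D2 (iv D2) (iv D1) F1 D1
theorem F13 : act 3 n2 = n2 := d7_2 F8 D2 (iv D2)
theorem F14 : act 4 n2 = n2 := d8_2 F9 D2 (iv D2)
theorem F15 : act 5 n2 = n2 := d9_2 F10 D2 (iv D2)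
theorem F16 : act 6 n2 = n2 := d10_2 F11 D2 (iv D2)
def n3 : Q := act 2 n2
theorem D3 : act 2 n2 = n3 := rfl
theorem F17 : act 0 n3 = n3 := d1_1 D3 (iv D3) F12
theorem F18 : act 1 n3 = n3 := d6_1 D3 (iv D3) (iv D2) F7 D2
theorem F19 : act 4 n3 = n3 := d12_2 F14 D3 (iv D3)
theorem F20 : act 5 n3 = n3 := d13_2 F15 D3 (iv D3)
theorem F21 : act 6 n3 = n3 := d14_2 F16 D3 (iv D3)
def n4 : Q := act 3 n3
theorem D4 : act 3 n3 = n4 := rfl
theorem F22 : act 0 n4 = n4 := d2_1 D4 (iv D4) F17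
theorem F23 : act 1 n4 = n4 := d7_1 D4 (iv D4) F18
theorem F24 : act 2 n4 = n4 := d11_1 D4 (iv D4) (iv D3) F13 D3
theorem F25 : act 5 n4 = n4 := d16_2 F20 D4 (iv D4)
def n5 : Q := act 4 n4
theorem D5 : act 4 n4 = n5 := rfl
theorem F26 : act 0 n5 = n5 := d3_1 D5 (iv D5) F22
theorem F27 : act 1 n5 = n5 := d8_1 D5 (iv D5) F23
theorem F28 : act 2 n5 = n5 := d12_1 D5 (iv D5) F24
theorem F29 : act 3 n5 = n5 := d15_1 D5 (iv D5) (iv D4) F19 D4
def n6 : Q := act 6 n4
theorem D6 : act 6 n4 = n6 := rfl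
theorem F30 : act 0 n6 = n6 := d5_1 D6 (iv D6) F22
theorem F31 : act 1 n6 = n6 := d10_1 D6 (iv D6) F23
theorem F32 : act 2 n6 = n6 := d14_1 D6 (iv D6) F24
theorem F33 : act 3 n6 = n6 := d17_1 D6 (iv D6) (iv D4) F21 D4
theorem F34 : act 5 n6 = n6 := d20_1 D6 (iv D6) F25
def n7 : Q := act 5 n5
theorem D7 : act 5 n5 = n7 := rfl
theorem F35 : act 0 n7 = n7 := d4_1 D7 (iv D7) F26
theorem F36 : act 1 n7 = n7 := d9_1 D7 (iv D7) F27
theorem F37 : act 2 n7 = n7 := d13_1 D7 (iv D7) F28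
theorem F38 : act 3 n7 = n7 := d16_1 D7 (iv D7) F29
theorem F39 : act 4 n7 = n7 := d18_1 D7 (iv D7) (iv D5) F25 D5
def n8 : Q := act 6 n5
theorem D8 : act 6 n5 = n8 := rfl
theorem F40 : act 0 n8 = n8 := d5_1 D8 (iv D8) F26
theorem F41 : act 1 n8 = n8 := d10_1 D8 (iv D8) F27
theorem F42 : act 2 n8 = n8 := d14_1 D8 (iv D8) F28
theorem F43 : act 4 n8 = n6 := d19_1 D8 (iv D6) D5
def n9 : Q := act 6 n7
theorem D9 : act 6 n7 = n9 := rfl
theorem F44 : act 0 n9 = n9 := d5_1 D9 (iv D9) F35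
theorem F45 : act 1 n9 = n9 := d10_1 D9 (iv D9) F36
theorem F46 : act 2 n9 = n9 := d14_1 D9 (iv D9) F37
theorem F47 : act 4 n9 = n9 := d19_1 D9 (iv D9) F39
theorem F48 : act 5 n9 = n8 := d20_1 D9 (iv D8) D7
def n10 : Q := act 3 n8
theorem D10 : act 3 n8 = n10 := rfl
theorem F49 : act 0 n10 = n10 := d2_1 D10 (iv D10) F40
theorem F50 : act 1 n10 = n10 := d7_1 D10 (iv D10) F41
theorem F51 : act 4 n10 = n10 := d15_2 (iv F43) D10 (iv D10) F43 F33
theorem F52 : act 6 n10 = n10 := d17_2 D8 D10 (iv D10) (iv D8) F29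
def n11 : Q := act 3 n9
theorem D11 : act 3 n9 = n11 := rfl
theorem F53 : act 0 n11 = n11 := d2_1 D11 (iv D11) F44
theorem F54 : act 1 n11 = n11 := d7_1 D11 (iv D11) F45
theorem F55 : act 5 n11 = n10 := d16_2 (iv F48) D11 (iv D10)
theorem F56 : act 6 n11 = n11 := d17_2 D9 D11 (iv D11) (iv D9) F38
def n12 : Q := act 2 n10
theorem D12 : act 2 n10 = n12 := rfl
theorem F57 : act 0 n12 = n12 := d1_1 D12 (iv D12) F49
theorem F58 : act 3 n12 = n12 := d11_2 D10 D12 (iv D12) (iv D10) F42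
theorem F59 : act 4 n12 = n12 := d12_2 F51 D12 (iv D12)
theorem F60 : act 6 n12 = n12 := d14_2 F52 D12 (iv D12)
def n13 : Q := act 2 n11
theorem D13 : act 2 n11 = n13 := rfl
theorem F61 : act 0 n13 = n13 := d1_1 D13 (iv D13) F53
theorem F62 : act 3 n13 = n13 := d11_2 D11 D13 (iv D13) (iv D11) F46
theorem F63 : act 5 n13 = n12 := d13_2 (iv F55) D13 (iv D12)
theorem F64 : act 6 n13 = n13 := d14_2 F56 D13 (iv D13)
def n14 : Q := act 4 n11
theorem D14 : act 4 n11 = n14 := rfl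
theorem F65 : act 0 n14 = n14 := d3_1 D14 (iv D14) F53
theorem F66 : act 1 n14 = n14 := d8_1 D14 (iv D14) F54
theorem F67 : act 3 n14 = n14 := d15_1 D14 (iv D14) (iv D11) F47 D11
theorem F68 : act 5 n14 = n14 := d18_2 (iv F55) D14 (iv D14) F55 F51
theorem F69 : act 6 n14 = n14 := d19_2 F56 D14 (iv D14)
def n15 : Q := act 1 n12
theorem D15 : act 1 n12 = n15 := rfl
theorem F70 : act 2 n15 = n15 := d6_2 D12 D15 (iv D15) (iv D12) F50
theorem F71 : act 3 n15 = n15 := d7_2 F58 D15 (iv D15)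
theorem F72 : act 4 n15 = n15 := d8_2 F59 D15 (iv D15)
theorem F73 : act 6 n15 = n15 := d10_2 F60 D15 (iv D15)
def n16 : Q := act 1 n13
theorem D16 : act 1 n13 = n16 := rfl
theorem F74 : act 2 n16 = n16 := d6_2 D13 D16 (iv D16) (iv D13) F54
theorem F75 : act 3 n16 = n16 := d7_2 F62 D16 (iv D16)
theorem F76 : act 5 n16 = n15 := d9_2 (iv F63) D16 (iv D15)
theorem F77 : act 6 n16 = n16 := d10_2 F64 D16 (iv D16)
def n17 : Q := act 4 n13
theorem D17 : act 4 n13 = n17 := rfl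
theorem F78 : act 0 n17 = n17 := d3_1 D17 (iv D17) F61
theorem F79 : act 2 n17 = n14 := d12_1 D17 (iv D14) D13
theorem F80 : act 5 n17 = n17 := d18_2 (iv F63) D17 (iv D17) F63 F59
theorem F81 : act 6 n17 = n17 := d19_2 F64 D17 (iv D17)
def n18 : Q := act 0 n15
theorem D18 : act 0 n15 = n18 := rfl
theorem F82 : act 1 n18 = n18 := d0_2 D15 D18 (iv D18) (iv D15) F57
theorem F83 : act 2 n18 = n18 := d1_2 F70 D18 (iv D18)
theorem F84 : act 3 n18 = n18 := d2_2 F71 D18 (iv D18)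
theorem F85 : act 4 n18 = n18 := d3_2 F72 D18 (iv D18)
theorem F86 : act 6 n18 = n18 := d5_2 F73 D18 (iv D18)
def n19 : Q := act 0 n16
theorem D19 : act 0 n16 = n19 := rfl
theorem F87 : act 1 n19 = n19 := d0_2 D16 D19 (iv D19) (iv D16) F61
theorem F88 : act 2 n19 = n19 := d1_2 F74 D19 (iv D19)
theorem F89 : act 3 n19 = n19 := d2_2 F75 D19 (iv D19)
theorem F90 : act 5 n19 = n18 := d4_2 (iv F76) D19 (iv D18)
theorem F91 : act 6 n19 = n19 := d5_2 F77 D19 (iv D19)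
def n20 : Q := act 4 n16
theorem D20 : act 4 n16 = n20 := rfl
theorem F92 : act 1 n20 = n17 := d8_1 D20 (iv D17) D16
theorem F93 : act 2 n20 = n20 := d12_1 D20 (iv D20) F74
theorem F94 : act 5 n20 = n20 := d18_2 (iv F76) D20 (iv D20) F76 F72
theorem F95 : act 6 n20 = n20 := d19_2 F77 D20 (iv D20)
def n21 : Q := act 3 n17
theorem D21 : act 3 n17 = n21 := rfl
theorem F96 : act 0 n21 = n21 := d2_1 D21 (iv D21) F78
theorem F97 : act 2 n21 = n21 := d11_1 D21 (iv D21) F79 F67 (iv F79)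
theorem F98 : act 4 n21 = n21 := d15_2 D17 D21 (iv D21) (iv D17) F62
theorem F99 : act 5 n21 = n21 := d16_2 F80 D21 (iv D21)
def n22 : Q := act 4 n19
theorem D22 : act 4 n19 = n22 := rfl
theorem F100 : act 0 n22 = n20 := d3_1 D22 (iv D20) D19
theorem F101 : act 1 n22 = n22 := d8_1 D22 (iv D22) F87
theorem F102 : act 2 n22 = n22 := d12_1 D22 (iv D22) F88
theorem F103 : act 5 n22 = n22 := d18_2 (iv F90) D22 (iv D22) F90 F85
theorem F104 : act 6 n22 = n22 := d19_2 F91 D22 (iv D22)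
def n23 : Q := act 3 n20
theorem D23 : act 3 n20 = n23 := rfl
theorem F105 : act 1 n23 = n21 := d7_1 D23 (iv D21) (iv F92)
theorem F106 : act 4 n23 = n23 := d15_2 D20 D23 (iv D23) (iv D20) F75
theorem F107 : act 5 n23 = n23 := d16_2 F94 D23 (iv D23)
def n24 : Q := act 6 n21
theorem D24 : act 6 n21 = n24 := rfl
theorem F108 : act 0 n24 = n24 := d5_1 D24 (iv D24) F96
theorem F109 : act 2 n24 = n24 := d14_1 D24 (iv D24) F97
theorem F110 : act 3 n24 = n24 := d17_1 D24 (iv D24) (iv D21) F81 D21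
theorem F111 : act 4 n24 = n24 := d19_1 D24 (iv D24) F98
theorem F112 : act 5 n24 = n24 := d20_1 D24 (iv D24) F99
def n25 : Q := act 3 n22
theorem D25 : act 3 n22 = n25 := rfl
theorem F113 : act 0 n25 = n23 := d2_1 D25 (iv D23) (iv F100)
theorem F114 : act 1 n25 = n25 := d7_1 D25 (iv D25) F101
theorem F115 : act 4 n25 = n25 := d15_2 D22 D25 (iv D25) (iv D22) F89
theorem F116 : act 5 n25 = n25 := d16_2 F103 D25 (iv D25)
def n26 : Q := act 2 n23
theorem D26 : act 2 n23 = n26 := rfl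
theorem F117 : act 1 n26 = n26 := d6_1 D26 (iv D26) F105 F97 (iv F105)
theorem F118 : act 3 n26 = n26 := d11_2 D23 D26 (iv D26) (iv D23) F93
theorem F119 : act 4 n26 = n26 := d12_2 F106 D26 (iv D26)
theorem F120 : act 5 n26 = n26 := d13_2 F107 D26 (iv D26)
def n27 : Q := act 6 n23
theorem D27 : act 6 n23 = n27 := rfl
theorem F121 : act 1 n27 = n24 := d10_1 D27 (iv D24) (iv F105)
theorem F122 : act 3 n27 = n27 := d17_1 D27 (iv D27) (iv D23) F95 D23
theorem F123 : act 4 n27 = n27 := d19_1 D27 (iv D27) F106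
theorem F124 : act 5 n27 = n27 := d20_1 D27 (iv D27) F107
def n28 : Q := act 2 n25
theorem D28 : act 2 n25 = n28 := rfl
theorem F125 : act 0 n28 = n26 := d1_1 D28 (iv D26) (iv F113)
theorem F126 : act 3 n28 = n28 := d11_2 D25 D28 (iv D28) (iv D25) F102
theorem F127 : act 4 n28 = n28 := d12_2 F115 D28 (iv D28)
theorem F128 : act 5 n28 = n28 := d13_2 F116 D28 (iv D28)
def n29 : Q := act 6 n25
theorem D29 : act 6 n25 = n29 := rfl
theorem F129 : act 0 n29 = n27 := d5_1 D29 (iv D27) (iv F113)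
theorem F130 : act 1 n29 = n29 := d10_1 D29 (iv D29) F114
theorem F131 : act 3 n29 = n29 := d17_1 D29 (iv D29) (iv D25) F104 D25
theorem F132 : act 4 n29 = n29 := d19_1 D29 (iv D29) F115
theorem F133 : act 5 n29 = n29 := d20_1 D29 (iv D29) F116
def n30 : Q := act 6 n26
theorem D30 : act 6 n26 = n30 := rfl
theorem F134 : act 1 n30 = n30 := d10_1 D30 (iv D30) F117
theorem F135 : act 2 n30 = n27 := d14_1 D30 (iv D27) D26
theorem F136 : act 4 n30 = n30 := d19_1 D30 (iv D30) F119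
theorem F137 : act 5 n30 = n30 := d20_1 D30 (iv D30) F120
def n31 : Q := act 1 n28
theorem D31 : act 1 n28 = n31 := rfl
theorem F138 : act 0 n31 = n31 := d0_1 D31 (iv D31) F125 F117 (iv F125)
theorem F139 : act 2 n31 = n31 := d6_2 D28 D31 (iv D31) (iv D28) F114
theorem F140 : act 3 n31 = n31 := d7_2 F126 D31 (iv D31)
theorem F141 : act 4 n31 = n31 := d8_2 F127 D31 (iv D31)
theorem F142 : act 5 n31 = n31 := d9_2 F128 D31 (iv D31)
def n32 : Q := act 6 n28
theorem D32 : act 6 n28 = n32 := rfl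
theorem F143 : act 0 n32 = n30 := d5_1 D32 (iv D30) (iv F125)
theorem F144 : act 2 n32 = n29 := d14_1 D32 (iv D29) D28
theorem F145 : act 4 n32 = n32 := d19_1 D32 (iv D32) F127
theorem F146 : act 5 n32 = n32 := d20_1 D32 (iv D32) F128
def n33 : Q := act 3 n30
theorem D33 : act 3 n30 = n33 := rfl
theorem F147 : act 1 n33 = n33 := d7_1 D33 (iv D33) F134
theorem F148 : act 2 n33 = n33 := d11_1 D33 (iv D33) F135 F122 (iv F135)
theorem F149 : act 5 n33 = n33 := d16_2 F137 D33 (iv D33)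
theorem F150 : act 6 n33 = n33 := d17_2 D30 D33 (iv D33) (iv D30) F118
def n34 : Q := act 6 n31
theorem D34 : act 6 n31 = n34 := rfl
theorem F151 : act 0 n34 = n34 := d5_1 D34 (iv D34) F138
theorem F152 : act 1 n34 = n32 := d10_1 D34 (iv D32) D31
theorem F153 : act 2 n34 = n34 := d14_1 D34 (iv D34) F139
theorem F154 : act 4 n34 = n34 := d19_1 D34 (iv D34) F141
theorem F155 : act 5 n34 = n34 := d20_1 D34 (iv D34) F142
def n35 : Q := act 3 n32
theorem D35 : act 3 n32 = n35 := rfl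
theorem F156 : act 0 n35 = n33 := d2_1 D35 (iv D33) (iv F143)
theorem F157 : act 2 n35 = n35 := d11_1 D35 (iv D35) F144 F131 (iv F144)
theorem F158 : act 5 n35 = n35 := d16_2 F146 D35 (iv D35)
theorem F159 : act 6 n35 = n35 := d17_2 D32 D35 (iv D35) (iv D32) F126
def n36 : Q := act 4 n33
theorem D36 : act 4 n33 = n36 := rfl
theorem F160 : act 1 n36 = n36 := d8_1 D36 (iv D36) F147
theorem F161 : act 2 n36 = n36 := d12_1 D36 (iv D36) F148
theorem F162 : act 3 n36 = n36 := d15_1 D36 (iv D36) (iv D33) F136 D33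
theorem F163 : act 6 n36 = n36 := d19_2 F150 D36 (iv D36)
def n37 : Q := act 3 n34
theorem D37 : act 3 n34 = n37 := rfl
theorem F164 : act 0 n37 = n37 := d2_1 D37 (iv D37) F151
theorem F165 : act 1 n37 = n35 := d7_1 D37 (iv D35) (iv F152)
theorem F166 : act 5 n37 = n37 := d16_2 F155 D37 (iv D37)
theorem F167 : act 6 n37 = n37 := d17_2 D34 D37 (iv D37) (iv D34) F140
def n38 : Q := act 4 n35
theorem D38 : act 4 n35 = n38 := rfl
theorem F168 : act 0 n38 = n36 := d3_1 D38 (iv D36) (iv F156)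
theorem F169 : act 2 n38 = n38 := d12_1 D38 (iv D38) F157
theorem F170 : act 3 n38 = n38 := d15_1 D38 (iv D38) (iv D35) F145 D35
theorem F171 : act 6 n38 = n38 := d19_2 F159 D38 (iv D38)
def n39 : Q := act 5 n36
theorem D39 : act 5 n36 = n39 := rfl
theorem F172 : act 1 n39 = n39 := d9_1 D39 (iv D39) F160
theorem F173 : act 2 n39 = n39 := d13_1 D39 (iv D39) F161
theorem F174 : act 3 n39 = n39 := d16_1 D39 (iv D39) F162
theorem F175 : act 4 n39 = n39 := d18_1 D39 (iv D39) (iv D36) F149 D36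
theorem F176 : act 6 n39 = n39 := d20_2 F163 D39 (iv D39)
def n40 : Q := act 2 n37
theorem D40 : act 2 n37 = n40 := rfl
theorem F177 : act 0 n40 = n40 := d1_1 D40 (iv D40) F164
theorem F178 : act 1 n40 = n40 := d6_1 D40 (iv D40) F165 F157 (iv F165)
theorem F179 : act 3 n40 = n40 := d11_2 D37 D40 (iv D40) (iv D37) F153
theorem F180 : act 5 n40 = n40 := d13_2 F166 D40 (iv D40)
theorem F181 : act 6 n40 = n40 := d14_2 F167 D40 (iv D40)
def n41 : Q := act 4 n37
theorem D41 : act 4 n37 = n41 := rfl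
theorem F182 : act 0 n41 = n41 := d3_1 D41 (iv D41) F164
theorem F183 : act 1 n41 = n38 := d8_1 D41 (iv D38) (iv F165)
theorem F184 : act 3 n41 = n41 := d15_1 D41 (iv D41) (iv D37) F154 D37
theorem F185 : act 6 n41 = n41 := d19_2 F167 D41 (iv D41)
def n42 : Q := act 5 n38
theorem D42 : act 5 n38 = n42 := rfl
theorem F186 : act 0 n42 = n39 := d4_1 D42 (iv D39) (iv F168)
theorem F187 : act 2 n42 = n42 := d13_1 D42 (iv D42) F169
theorem F188 : act 3 n42 = n42 := d16_1 D42 (iv D42) F170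
theorem F189 : act 4 n42 = n42 := d18_1 D42 (iv D42) (iv D38) F158 D38
theorem F190 : act 6 n42 = n42 := d20_2 F171 D42 (iv D42)
def n43 : Q := act 4 n40
theorem D43 : act 4 n40 = n43 := rfl
theorem F191 : act 0 n43 = n43 := d3_1 D43 (iv D43) F177
theorem F192 : act 1 n43 = n43 := d8_1 D43 (iv D43) F178
theorem F193 : act 2 n43 = n41 := d12_1 D43 (iv D41) D40
theorem F194 : act 6 n43 = n43 := d19_2 F181 D43 (iv D43)
def n44 : Q := act 5 n41
theorem D44 : act 5 n41 = n44 := rfl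
theorem F195 : act 0 n44 = n44 := d4_1 D44 (iv D44) F182
theorem F196 : act 1 n44 = n42 := d9_1 D44 (iv D42) (iv F183)
theorem F197 : act 3 n44 = n44 := d16_1 D44 (iv D44) F184
theorem F198 : act 4 n44 = n44 := d18_1 D44 (iv D44) (iv D41) F166 D41
theorem F199 : act 6 n44 = n44 := d20_2 F185 D44 (iv D44)
def n45 : Q := act 3 n43
theorem D45 : act 3 n43 = n45 := rfl
theorem F200 : act 0 n45 = n45 := d2_1 D45 (iv D45) F191
theorem F201 : act 1 n45 = n45 := d7_1 D45 (iv D45) F192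
theorem F202 : act 2 n45 = n45 := d11_1 D45 (iv D45) F193 F184 (iv F193)
theorem F203 : act 4 n45 = n45 := d15_2 D43 D45 (iv D45) (iv D43) F179
def n46 : Q := act 5 n43
theorem D46 : act 5 n43 = n46 := rfl
theorem F204 : act 0 n46 = n46 := d4_1 D46 (iv D46) F191
theorem F205 : act 1 n46 = n46 := d9_1 D46 (iv D46) F192
theorem F206 : act 2 n46 = n44 := d13_1 D46 (iv D44) (iv F193)
theorem F207 : act 4 n46 = n46 := d18_1 D46 (iv D46) (iv D43) F180 D43
theorem F208 : act 6 n46 = n46 := d20_2 F194 D46 (iv D46)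
def n47 : Q := act 5 n45
theorem D47 : act 5 n45 = n47 := rfl
theorem F209 : act 0 n47 = n47 := d4_1 D47 (iv D47) F200
theorem F210 : act 1 n47 = n47 := d9_1 D47 (iv D47) F201
theorem F211 : act 2 n47 = n47 := d13_1 D47 (iv D47) F202
theorem F212 : act 3 n47 = n46 := d16_1 D47 (iv D46) D45
def n48 : Q := act 6 n45
theorem D48 : act 6 n45 = n48 := rfl
theorem F213 : act 0 n48 = n48 := d5_1 D48 (iv D48) F200
theorem F214 : act 1 n48 = n48 := d10_1 D48 (iv D48) F201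
theorem F215 : act 2 n48 = n48 := d14_1 D48 (iv D48) F202
theorem F216 : act 3 n48 = n48 := d17_1 D48 (iv D48) (iv D45) F194 D45
theorem F217 : act 4 n48 = n48 := d19_1 D48 (iv D48) F203
def n49 : Q := act 4 n47
theorem D49 : act 4 n47 = n49 := rfl
theorem F218 : act 0 n49 = n49 := d3_1 D49 (iv D49) F209
theorem F219 : act 1 n49 = n49 := d8_1 D49 (iv D49) F210
theorem F220 : act 2 n49 = n49 := d12_1 D49 (iv D49) F211
theorem F221 : act 3 n49 = n49 := d15_1 D49 (iv D49) F212 F207 (iv F212)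
theorem F222 : act 5 n49 = n49 := d18_2 D47 D49 (iv D49) (iv D47) F203
def n50 : Q := act 6 n47
theorem D50 : act 6 n47 = n50 := rfl
theorem F223 : act 0 n50 = n50 := d5_1 D50 (iv D50) F209
theorem F224 : act 1 n50 = n50 := d10_1 D50 (iv D50) F210
theorem F225 : act 2 n50 = n50 := d14_1 D50 (iv D50) F211
theorem F226 : act 3 n50 = n50 := d17_1 D50 (iv D50) F212 F208 (iv F212)
theorem F227 : act 5 n50 = n48 := d20_1 D50 (iv D48) D47
def n51 : Q := act 6 n49
theorem D51 : act 6 n49 = n51 := rfl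
theorem F228 : act 0 n51 = n51 := d5_1 D51 (iv D51) F218
theorem F229 : act 1 n51 = n51 := d10_1 D51 (iv D51) F219
theorem F230 : act 2 n51 = n51 := d14_1 D51 (iv D51) F220
theorem F231 : act 4 n51 = n50 := d19_1 D51 (iv D50) D49
theorem F232 : act 5 n51 = n51 := d20_1 D51 (iv D51) F222
def n52 : Q := act 3 n51
theorem D52 : act 3 n51 = n52 := rfl
theorem F233 : act 0 n52 = n52 := d2_1 D52 (iv D52) F228
theorem F234 : act 1 n52 = n52 := d7_1 D52 (iv D52) F229
theorem F235 : act 4 n52 = n52 := d15_2 (iv F231) D52 (iv D52) F231 F226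
theorem F236 : act 5 n52 = n52 := d16_2 F232 D52 (iv D52)
theorem F237 : act 6 n52 = n52 := d17_2 D51 D52 (iv D52) (iv D51) F221
def n53 : Q := act 2 n52
theorem D53 : act 2 n52 = n53 := rfl
theorem F238 : act 0 n53 = n53 := d1_1 D53 (iv D53) F233
theorem F239 : act 3 n53 = n53 := d11_2 D52 D53 (iv D53) (iv D52) F230
theorem F240 : act 4 n53 = n53 := d12_2 F235 D53 (iv D53)
theorem F241 : act 5 n53 = n53 := d13_2 F236 D53 (iv D53)
theorem F242 : act 6 n53 = n53 := d14_2 F237 D53 (iv D53)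
def n54 : Q := act 1 n53
theorem D54 : act 1 n53 = n54 := rfl
theorem F243 : act 2 n54 = n54 := d6_2 D53 D54 (iv D54) (iv D53) F234
theorem F244 : act 3 n54 = n54 := d7_2 F239 D54 (iv D54)
theorem F245 : act 4 n54 = n54 := d8_2 F240 D54 (iv D54)
theorem F246 : act 5 n54 = n54 := d9_2 F241 D54 (iv D54)
theorem F247 : act 6 n54 = n54 := d10_2 F242 D54 (iv D54)
def n55 : Q := act 0 n54
theorem D55 : act 0 n54 = n55 := rfl
theorem F248 : act 1 n55 = n55 := d0_2 D54 D55 (iv D55) (iv D54) F238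
theorem F249 : act 2 n55 = n55 := d1_2 F243 D55 (iv D55)
theorem F250 : act 3 n55 = n55 := d2_2 F244 D55 (iv D55)
theorem F251 : act 4 n55 = n55 := d3_2 F245 D55 (iv D55)
theorem F252 : act 5 n55 = n55 := d4_2 F246 D55 (iv D55)
theorem F253 : act 6 n55 = n55 := d5_2 F247 D55 (iv D55)

end Cfsg.Agent.Helper17.WE7TC
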