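import Cfsg.Agent.Helper17.WE7TC.Facts1

set_option autoImplicit false
set_option linter.all false
set_option maxRecDepth 100000

noncomputable section

namespace Cfsg.Agent.Helper17.WE7TC

def N : ℕ := 56

def nl : ℕ := 7

def parT : ℕ := 0xdb5d33c6fbedb6bae9a269659238a181f79c71a6595d759551345040f34d30b2ca2481c5144103081000

def pletT : ℕ := 0x53da6b5d962b1c79e3b2c9e71c0213126f6ba3440

def par (i : ℕ) : ℕ := (parT >>> (6 * i)) &&& 63

def plet (i : ℕ) : ℕ := (pletT >>> (3 * i)) &&& 7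

def chk (i p l : ℕ) : Bool :=
  decide (0 < i) && decide (i < N) && decide (par i = p) && decide (p < i) && decide (plet i = l)

def nd (i : ℕ) : Q :=
  if h : 0 < i ∧ i < N ∧ par i < i then act (plet i) (nd (par i)) else n0
termination_by i
decreasing_by exact h.2.2

theorem nd_zero : nd 0 = n0 := by
  rw [nd, dif_neg]; omega

theorem nd_ge {i : ℕ} (h : N ≤ i) : nd i = n0 := by
  rw [nd, dif_neg]; omega

theorem nd_step {i p l : ℕ} (h : chk i p l = true) : nd i = act l (nd p) := by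
  simp only [chk, Bool.and_eq_true, decide_eq_true_eq] at h
  obtain ⟨⟨⟨⟨h1, h2⟩, h3⟩, h4⟩, h5⟩ := h
  rw [nd, dif_pos ⟨h1, h2, h3 ▸ h4⟩, h3, h5]

theorem ndS {i p l : ℕ} {y x : Q} (h : chk i p l = true) (e : nd p = y) (F : act l y = x) :
    nd i = x := by
  rw [nd_step h, e, F]

def P (i : ℕ) : Prop := ∀ l, l < nl → ∃ j, act l (nd i) = nd j

theorem tt {l j : ℕ} {x y : Q} (e : nd j = y) (F : act l x = y) : ∃ j, act l x = nd j :=
  ⟨j, F.trans e.symm⟩

theorem allL {i : ℕ} {x : Q} (e : nd i = x) (h0 : ∃ j, act 0 x = nd j) (h1 : ∃ j, act 1 x = nd j) (h2 : ∃ j, act 2 x = nd j) (h3 : ∃ j, act 3 x = nd j) (h4 : ∃ j, act 4 x = nd j) (h5 : ∃ j, act 5 x = nd j) (h6 : ∃ j, act 6 x = nd j) : P i := by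
  intro l hl; rw [e]; unfold nl at hl; interval_cases l <;> assumption

theorem stepQ (k : ℕ) (h : ∀ i, i < k → P i) (hk : P k) : ∀ i, i < k + 1 → P i := by
  intro i hi
  rcases Nat.lt_succ_iff_lt_or_eq.mp hi with h1 | h1
  · exact h i h1
  · exact h1 ▸ hk

theorem Q0 : ∀ i, i < 0 → P i := fun i h => absurd h (Nat.not_lt_zero i)

theorem N0 : nd 0 = n0 := nd_zero


end Cfsg.Agent.Helper17.WE7TC
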